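import Mathlib

/-!
# Topology of punctured generalisations
-/

set_option autoImplicit false

universe u v

open Topology TopologicalSpace

namespace Groth.Agent.DecentPunct

/-- Jacobson spaces descend along continuous surjections with discrete fibres lifting specialisations -/
theorem jacobsonSpace_of_surjective {P : Type u} {T : Type v} [TopologicalSpace P] [TopologicalSpace T]
    [JacobsonSpace P] [T0Space T] [NoetherianSpace T] {π : P → T} (hc : Continuous π)
    (hs : Function.Surjective π) (hfib : ∀ p q : P, π p = π q → p ⤳ q → p = q)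
    (hlift : ∀ (s : T) (q : P), s ⤳ π q → ∃ p, π p = s ∧ p ⤳ q) : JacobsonSpace T := by
  refine jacobsonSpace_iff_locallyClosed.2 fun Z hne hlc => ?_
  obtain ⟨⟨s, hsZ⟩, -, hcl⟩ :=
    (isClosed_univ (X := ↥Z)).exists_closed_singleton ⟨⟨hne.some, hne.some_mem⟩, trivial⟩
  have hsl : IsLocallyClosed ({s} : Set T) := by
    have h1 : ({s} : Set T) = Z ∩ closure {s} := by
      refine Set.Subset.antisymm (Set.singleton_subset_iff.2 ⟨hsZ, subset_closure (Set.mem_singleton s)⟩) fun t ⟨htZ, ht⟩ => ?_
      have h3 : (⟨t, htZ⟩ : Z) ∈ closure ({(⟨s, hsZ⟩ : Z)} : Set Z) := by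
        rw [IsEmbedding.subtypeVal.closure_eq_preimage_closure_image]
        simpa using ht
      rw [hcl.closure_eq] at h3
      exact congrArg Subtype.val h3
    rw [h1]
    exact hlc.inter isClosed_closure.isLocallyClosed
  have hclosed : ∀ p, π p = s → IsClosed ({p} : Set P) := fun p hp => by
    have h1 : ({p} : Set P) = π ⁻¹' {s} ∩ closure {p} :=
      Set.Subset.antisymm (Set.singleton_subset_iff.2 ⟨hp, subset_closure (Set.mem_singleton p)⟩) fun q ⟨hq, hpq⟩ =>
        (hfib p q (hp.trans hq.symm) (specializes_iff_mem_closure.2 hpq)).symm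
    have hl : IsLocallyClosed ({p} : Set P) := by
      rw [h1]; exact (hsl.preimage hc).inter isClosed_closure.isLocallyClosed
    obtain ⟨q, hq, hq'⟩ := jacobsonSpace_iff_locallyClosed.1 ‹_› _ (Set.singleton_nonempty p) hl
    rw [Set.mem_singleton_iff] at hq
    subst hq
    exact hq'
  refine ⟨s, hsZ, ?_⟩
  refine closure_subset_iff_isClosed.1 fun t ht => ?_
  obtain ⟨q, rfl⟩ := hs t
  obtain ⟨p, hp, hpq⟩ := hlift s q (specializes_iff_mem_closure.2 ht)
  have : q ∈ closure {p} := specializes_iff_mem_closure.1 hpq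
  rw [(hclosed p hp).closure_eq, Set.mem_singleton_iff] at this
  rw [this, hp]
  rfl

/-- strict generalisations of a point in a sober space form a sober space -/
theorem quasiSober_punctured {X : Type u} [TopologicalSpace X] [T0Space X] [QuasiSober X] (x : X) :
    QuasiSober {x' : X // x' ⤳ x ∧ x' ≠ x} := by
  refine ⟨fun {Z} hZ hZc => ?_⟩
  obtain ⟨η, hη⟩ : ∃ η, IsGenericPoint η (closure (Subtype.val '' Z)) :=
    QuasiSober.sober (hZ.image _ continuous_subtype_val.continuousOn).closure isClosed_closure
  obtain ⟨z, hz⟩ := hZ.nonempty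
  have hηz : η ⤳ z.1 := hη.specializes (subset_closure ⟨z, hz, rfl⟩)
  have hne : η ≠ x := fun e => by subst e; exact z.2.2 (z.2.1.antisymm hηz).eq
  refine ⟨⟨η, hηz.trans z.2.1, hne⟩, ?_⟩
  show closure _ = Z
  ext w
  rw [IsEmbedding.subtypeVal.closure_eq_preimage_closure_image, Set.image_singleton, Set.mem_preimage]
  change w.1 ∈ closure {η} ↔ _
  rw [hη.def, ← closure_subtype, hZc.closure_eq]

end Groth.Agent.DecentPunct
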